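import Mathlib

/-!
# Base change to a local scheme is, on affine opens, a localisation
-/

set_option autoImplicit false
set_option linter.style.haveILetI false
set_option backward.isDefEq.respectTransparency false
set_option backward.isDefEq.respectTransparency.types false

universe u

open CategoryTheory CategoryTheory.Limits AlgebraicGeometry TopologicalSpace Opposite

noncomputable section

namespace Groth.Agent.PicSpread

variable {S : Scheme.{u}}

/-- The functions on `U` invertible at `s`. -/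
def Mon (U : S.Opens) (s : S) (hs : s ∈ U) : Submonoid Γ(S, U) :=
  (IsUnit.submonoid (S.presheaf.stalk s)).comap (S.presheaf.germ U s hs).hom

theorem mem_Mon {U : S.Opens} {s : S} {hs : s ∈ U} {a : Γ(S, U)} :
    a ∈ Mon U s hs ↔ s ∈ S.basicOpen a :=
  (S.mem_basicOpen a s hs).symm

theorem fromSpecStalk_preimage {U : S.Opens} {s : S} (hs : s ∈ U) :
    (⊤ : (Spec (S.presheaf.stalk s)).Opens) ≤ S.fromSpecStalk s ⁻¹ᵁ U := fun p _ => by
  have h : S.fromSpecStalk s p ∈ Set.range (S.fromSpecStalk s) := ⟨p, rfl⟩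
  rw [Scheme.range_fromSpecStalk] at h
  exact h.mem_open U.2 hs

theorem isLocalization_spec {U : S.Opens} (hU : IsAffineOpen U) (s : S) (hs : s ∈ U) :
    letI := ((S.fromSpecStalk s).appLE U ⊤ (fromSpecStalk_preimage hs)).hom.toAlgebra
    IsLocalization (Mon U s hs) Γ(Spec (S.presheaf.stalk s), ⊤) := by
  letI := S.presheaf.algebra_section_stalk (⟨s, hs⟩ : U)
  haveI := hU.isLocalization_stalk ⟨s, hs⟩
  have hM : (hU.primeIdealOf ⟨s, hs⟩).asIdeal.primeCompl = Mon U s hs := by
    ext a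
    exact (IsLocalization.AtPrime.isUnit_to_map_iff (S.presheaf.stalk s)
      (hU.primeIdealOf ⟨s, hs⟩).asIdeal a).symm
  have hloc : IsLocalization (Mon U s hs) (S.presheaf.stalk s) := hM ▸ hU.isLocalization_stalk ⟨s, hs⟩
  letI := ((S.fromSpecStalk s).appLE U ⊤ (fromSpecStalk_preimage hs)).hom.toAlgebra
  let e : S.presheaf.stalk s ≃ₐ[Γ(S, U)] Γ(Spec (S.presheaf.stalk s), ⊤) :=
    AlgEquiv.ofRingEquiv (f := (Scheme.ΓSpecIso (S.presheaf.stalk s)).symm.commRingCatIsoToRingEquiv)
      (fun a => by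
        show (Scheme.ΓSpecIso (S.presheaf.stalk s)).inv ((S.presheaf.germ U s hs) a) =
          (S.fromSpecStalk s).appLE U ⊤ (fromSpecStalk_preimage hs) a
        rw [Scheme.Hom.appLE, Scheme.fromSpecStalk_app hs, Category.assoc, Category.assoc,
          ← Functor.map_comp, ← op_comp]
        erw [CategoryTheory.Functor.map_id]
        rfl)
  exact IsLocalization.isLocalization_of_algEquiv (Mon U s hs) e

variable {X : Scheme.{u}} (f : X ⟶ S) {U : S.Opens} (s : S) (hs : s ∈ U)
include hs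

theorem isAffineOpen_preimage (hU : IsAffineOpen U) {W : X.Opens} (hW : IsAffineOpen W)
    (hWU : W ≤ f ⁻¹ᵁ U) : IsAffineOpen (pullback.fst f (S.fromSpecStalk s) ⁻¹ᵁ W) := by
  have : IsAffine _ := hU
  have : IsAffine _ := hW
  have : IsAffine _ := isAffineOpen_top (Spec (S.presheaf.stalk s))
  exact .of_isIso (Scheme.Hom.isPullback_resLE (IsPullback.of_hasPullback f (S.fromSpecStalk s))
    (fromSpecStalk_preimage hs) hWU (UY := pullback.fst f (S.fromSpecStalk s) ⁻¹ᵁ W) (by simp)).isoPullback.hom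

theorem isLocalization_preimage (hU : IsAffineOpen U) {W : X.Opens} (hW : IsAffineOpen W)
    (hWU : W ≤ f ⁻¹ᵁ U) :
    letI := ((pullback.fst f (S.fromSpecStalk s)).app W).hom.toAlgebra
    IsLocalization ((Mon U s hs).map (f.appLE U W hWU).hom)
      Γ(pullback f (S.fromSpecStalk s), pullback.fst f (S.fromSpecStalk s) ⁻¹ᵁ W) := by
  let g := S.fromSpecStalk s
  let H := IsPullback.of_hasPullback f g
  have hUY : pullback.fst f g ⁻¹ᵁ W = pullback.fst f g ⁻¹ᵁ W ⊓ pullback.snd f g ⁻¹ᵁ (⊤ : (Spec (S.presheaf.stalk s)).Opens) := by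
    simp
  have hpo := (isIso_pushoutSection_iff H (fromSpecStalk_preimage hs) hWU hUY).1
    (isIso_pushoutSection_of_isAffineOpen H (fromSpecStalk_preimage hs) hWU hUY hU (isAffineOpen_top _) hW)
  letI := (f.appLE U W hWU).hom.toAlgebra
  letI := (g.appLE U ⊤ (fromSpecStalk_preimage hs)).hom.toAlgebra
  letI a1 := ((pullback.fst f g).app W).hom.toAlgebra
  letI := ((pullback.snd f g).appLE ⊤ (pullback.fst f g ⁻¹ᵁ W) (by simp)).hom.toAlgebra
  letI := (f.appLE U W hWU ≫ (pullback.fst f g).app W).hom.toAlgebra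
  haveI : IsScalarTower Γ(S, U) Γ(X, W) Γ(pullback f g, pullback.fst f g ⁻¹ᵁ W) :=
    IsScalarTower.of_algebraMap_eq' rfl
  have e1 : (pullback.fst f g).appLE W (pullback.fst f g ⁻¹ᵁ W) le_rfl = (pullback.fst f g).app W :=
    Scheme.Hom.appLE_eq_app _
  haveI : IsScalarTower Γ(S, U) Γ(Spec (S.presheaf.stalk s), ⊤) Γ(pullback f g, pullback.fst f g ⁻¹ᵁ W) :=
    IsScalarTower.of_algebraMap_eq' (congrArg CommRingCat.Hom.hom (e1 ▸ hpo.w))
  haveI := isLocalization_spec hU s hs
  rw [e1] at hpo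
  have hp : Algebra.IsPushout Γ(S, U) Γ(X, W) Γ(Spec (S.presheaf.stalk s), ⊤)
      Γ(pullback f g, pullback.fst f g ⁻¹ᵁ W) := CommRingCat.isPushout_iff_isPushout.1 hpo
  exact (Algebra.isLocalization_iff_isPushout (Mon U s hs) _).2 hp

end Groth.Agent.PicSpread
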